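import Groth.Agent.HilbPtsLib.SymHilb
import Groth.Agent.QuotLib.Exists

/-!
# Affine charts of fibre powers and symmetric powers
-/

set_option autoImplicit false
set_option linter.style.haveILetI false
set_option backward.isDefEq.respectTransparency false
set_option backward.isDefEq.respectTransparency.types false

universe u

open CategoryTheory CategoryTheory.Limits AlgebraicGeometry TopologicalSpace SymProd
open HilbPts.SC (fb fp fp_comp splitAt)

noncomputable section

namespace SymPowLib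

variable {X S : Scheme.{u}} (f : X ⟶ S)

/-- A finite set of points of one fibre lies in a small affine open. -/
theorem exists_affine_nbhd (hAF : IsAF f) {V : S.Opens} {s : S} (hs : s ∈ V) {n : ℕ} (x : Fin n → X)
    (hx : ∀ i, f (x i) = s) : ∃ U : X.Opens, IsAffineOpen U ∧ U ≤ f ⁻¹ᵁ V ∧ ∀ i, x i ∈ U := by
  classical
  obtain ⟨U₀, hU₀, hxU₀⟩ := hAF s (Finset.univ.image x) (fun y hy => by
    obtain ⟨i, -, rfl⟩ := Finset.mem_image.1 hy
    exact hx i)
  obtain ⟨r, hr, hrx⟩ := QuotLib.exists_basicOpen_of_finite hU₀ (W := U₀ ⊓ f ⁻¹ᵁ V) inf_le_left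
    (Set.range x) (Set.finite_range x) (by
      rintro _ ⟨i, rfl⟩
      exact ⟨hxU₀ _ (Finset.mem_image_of_mem x (Finset.mem_univ i)), by
        show f (x i) ∈ V; rw [hx i]; exact hs⟩)
  exact ⟨X.basicOpen r, hU₀.basicOpen r, hr.trans inf_le_right, fun i => hrx ⟨i, rfl⟩⟩

variable {V : S.Opens} {U : X.Opens} (e : U ≤ f ⁻¹ᵁ V) (n : ℕ)

/-- The map from the fibre power of a chart. -/
def chartMap : fibPow (f.resLE V U e) n ⟶ fibPow f n :=
  WidePullback.lift (fb (f.resLE V U e) n ≫ V.ι) (fun i => fp (f.resLE V U e) i ≫ U.ι) (fun i => by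
    rw [Category.assoc, ← Scheme.Hom.resLE_comp_ι f e, ← Category.assoc, fp_comp])

@[reassoc (attr := simp)]
theorem chartMap_fp (i : Fin n) : chartMap f e n ≫ fp f i = fp (f.resLE V U e) i ≫ U.ι := by
  unfold chartMap; exact WidePullback.lift_π _ _ _ _ i

@[reassoc (attr := simp)]
theorem chartMap_fb : chartMap f e n ≫ fb f n = fb (f.resLE V U e) n ≫ V.ι := by
  unfold chartMap; exact WidePullback.lift_base _ _ _ _

@[reassoc]
theorem chartMap_perm (σ : Equiv.Perm (Fin n)) :
    chartMap f e n ≫ permHom f n σ = permHom (f.resLE V U e) n σ ≫ chartMap f e n := by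
  refine WidePullback.hom_ext _ _ _ (fun i => ?_) ?_
  · show (chartMap f e n ≫ permHom f n σ) ≫ fp f i = (permHom _ n σ ≫ chartMap f e n) ≫ fp f i
    rw [Category.assoc, Category.assoc, chartMap_fp, permHom_π, permHom_π_assoc, chartMap_fp]
  · show (chartMap f e n ≫ permHom f n σ) ≫ fb f n = (permHom _ n σ ≫ chartMap f e n) ≫ fb f n
    rw [Category.assoc, Category.assoc, chartMap_fb, permHom_base, permHom_base_assoc, chartMap_fb]

variable (V U) in
/-- The open of the fibre power given by a chart. -/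
def chartOpen : (fibPow f n).Opens := fb f n ⁻¹ᵁ V ⊓ ⨅ i : Fin n, fp f i ⁻¹ᵁ U

theorem mem_chartOpen (x : fibPow f n) :
    x ∈ chartOpen f V U n ↔ fb f n x ∈ V ∧ ∀ i, fp f i x ∈ U := by
  rw [chartOpen, ← SetLike.mem_coe, Opens.coe_inf, Set.mem_inter_iff, Opens.coe_iInf, Set.mem_iInter]
  rfl

theorem range_chartMap_le : Set.range (chartMap f e n) ⊆ chartOpen f V U n := by
  rintro _ ⟨z, rfl⟩
  refine (mem_chartOpen f n _).2 ⟨?_, fun i => ?_⟩
  · rw [← Scheme.Hom.comp_apply, chartMap_fb, Scheme.Hom.comp_apply]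
    exact (fb (f.resLE V U e) n z).2
  · rw [← Scheme.Hom.comp_apply, chartMap_fp, Scheme.Hom.comp_apply]
    exact (fp (f.resLE V U e) i z).2

/-- The fibre power of a chart is the open of the fibre power. -/
theorem exists_chartIso :
    ∃ φ : fibPow (f.resLE V U e) n ≅ (chartOpen f V U n).toScheme,
      φ.hom ≫ (chartOpen f V U n).ι = chartMap f e n := by
  let W := chartOpen f V U n
  have hb : Set.range (W.ι ≫ fb f n) ⊆ Set.range V.ι := by
    rintro _ ⟨z, rfl⟩
    rw [Scheme.Opens.range_ι]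
    exact ((mem_chartOpen f n z.1).1 z.2).1
  have hp : ∀ i, Set.range (W.ι ≫ fp f i) ⊆ Set.range U.ι := fun i => by
    rintro _ ⟨z, rfl⟩
    rw [Scheme.Opens.range_ι]
    exact ((mem_chartOpen f n z.1).1 z.2).2 i
  let b := IsOpenImmersion.lift V.ι _ hb
  let p := fun i => IsOpenImmersion.lift U.ι _ (hp i)
  have hbp : ∀ i, p i ≫ f.resLE V U e = b := fun i => by
    rw [← cancel_mono V.ι, Category.assoc, Scheme.Hom.resLE_comp_ι, IsOpenImmersion.lift_fac,
      IsOpenImmersion.lift_fac_assoc, Category.assoc, fp_comp]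
  let ψ : W.toScheme ⟶ fibPow (f.resLE V U e) n := WidePullback.lift b p hbp
  have hψ : ψ ≫ chartMap f e n = W.ι := by
    refine WidePullback.hom_ext _ _ _ (fun i => ?_) ?_
    · show (ψ ≫ chartMap f e n) ≫ fp f i = W.ι ≫ fp f i
      rw [Category.assoc, chartMap_fp, show ψ ≫ fp (f.resLE V U e) i ≫ U.ι =
        (ψ ≫ WidePullback.π (fun _ : Fin n => f.resLE V U e) i) ≫ U.ι by rw [Category.assoc],
        WidePullback.lift_π, IsOpenImmersion.lift_fac]
    · show (ψ ≫ chartMap f e n) ≫ fb f n = W.ι ≫ fb f n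
      rw [Category.assoc, chartMap_fb, show ψ ≫ fb (f.resLE V U e) n ≫ V.ι =
        (ψ ≫ WidePullback.base (fun _ : Fin n => f.resLE V U e)) ≫ V.ι by rw [Category.assoc],
        WidePullback.lift_base, IsOpenImmersion.lift_fac]
  let φ : fibPow (f.resLE V U e) n ⟶ W.toScheme := IsOpenImmersion.lift W.ι (chartMap f e n) (by
    rw [Scheme.Opens.range_ι]; exact range_chartMap_le f e n)
  have hφ : φ ≫ W.ι = chartMap f e n := IsOpenImmersion.lift_fac _ _ _
  have hm : ∀ {T : Scheme.{u}} (a c : T ⟶ fibPow (f.resLE V U e) n),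
      a ≫ chartMap f e n = c ≫ chartMap f e n → a = c := by
    intro T a c h
    refine WidePullback.hom_ext _ _ _ (fun i => ?_) ?_
    · rw [← cancel_mono U.ι]
      simpa [Category.assoc] using congrArg (fun t => t ≫ fp f i) h
    · rw [← cancel_mono V.ι]
      simpa [Category.assoc] using congrArg (fun t => t ≫ fb f n) h
  refine ⟨⟨φ, ψ, hm _ _ (by rw [Category.assoc, hψ, hφ, Category.id_comp]), ?_⟩, hφ⟩
  rw [← cancel_mono W.ι, Category.assoc, hφ, hψ, Category.id_comp]

/-- Fibre powers of an affine scheme over an affine scheme are affine. -/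
theorem isAffine_fibPow {U V : Scheme.{u}} [IsAffine U] [IsAffine V] (g : U ⟶ V) :
    ∀ n, IsAffine (fibPow g n)
  | 0 => by
    let v : V ⟶ fibPow g 0 := WidePullback.lift (𝟙 V) (fun i => i.elim0) (fun i => i.elim0)
    haveI : IsIso v := ⟨fb g 0, WidePullback.lift_base _ _ _ _,
      WidePullback.hom_ext _ _ _ (fun i => i.elim0) (by simp [v])⟩
    exact .of_isIso (inv v)
  | n + 1 =>
    haveI := isAffine_fibPow g n
    .of_isIso (splitAt g 0)

theorem isAffineOpen_chartOpen (e : U ≤ f ⁻¹ᵁ V) (hU : IsAffineOpen U) (hV : IsAffineOpen V) :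
    IsAffineOpen (chartOpen f V U n) := by
  haveI : IsAffine U.toScheme := hU
  haveI : IsAffine V.toScheme := hV
  haveI := isAffine_fibPow (f.resLE V U e) n
  obtain ⟨φ, -⟩ := exists_chartIso f e n
  exact IsAffine.of_isIso φ.inv

variable {n}

theorem perm_mem_chartOpen (σ : Equiv.Perm (Fin n)) (x : fibPow f n) (hx : x ∈ chartOpen f V U n) :
    permHom f n σ x ∈ chartOpen f V U n := by
  rw [mem_chartOpen] at hx ⊢
  refine ⟨?_, fun i => ?_⟩
  · rw [← Scheme.Hom.comp_apply, permHom_base]; exact hx.1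
  · rw [← Scheme.Hom.comp_apply, permHom_π]; exact hx.2 _

theorem preimage_chartOpen (σ : Equiv.Perm (Fin n)) :
    permHom f n σ ⁻¹ᵁ chartOpen f V U n = chartOpen f V U n := by
  ext x
  refine ⟨fun hx => ?_, fun hx => perm_mem_chartOpen f σ x hx⟩
  have h : permHom f n σ x ∈ chartOpen f V U n := hx
  have := perm_mem_chartOpen f σ⁻¹ _ h
  rwa [← Scheme.Hom.comp_apply, ← permHom_mul, inv_mul_cancel, permHom_one] at this

/-- Every point of a symmetric power lies in a chart. -/
theorem exists_chart (hAF : IsAF f) {Y : Scheme.{u}} (q : fibPow f n ⟶ Y) (g : Y ⟶ S)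
    (hq : IsSymProd f n q g) (y : Y) {V : S.Opens} (hV : IsAffineOpen V) (hy : g y ∈ V) :
    ∃ (U : X.Opens) (W' : Y.Opens), IsAffineOpen U ∧ U ≤ f ⁻¹ᵁ V ∧ y ∈ W' ∧ IsAffineOpen W' ∧
      W' ≤ g ⁻¹ᵁ V ∧ q ⁻¹ᵁ W' = chartOpen f V U n := by
  haveI : Finite (ULift.{u} (Equiv.Perm (Fin n))) := inferInstance
  obtain ⟨x, rfl⟩ := QuotLib.surjective hq.isQuot y
  have hb : fb f n x = g (q x) := by rw [← Scheme.Hom.comp_apply, hq.over]
  obtain ⟨U, hU, e, hxU⟩ := exists_affine_nbhd f hAF hy (fun i => fp f i x) (fun i => by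
    rw [← Scheme.Hom.comp_apply, fp_comp, hb])
  let W := chartOpen f V U n
  have hxW : x ∈ W := (mem_chartOpen f n x).2 ⟨by rw [hb]; exact hy, hxU⟩
  have hsat : q ⁻¹' (q '' (W : Set (fibPow f n))) = W := by
    refine Set.Subset.antisymm ?_ (Set.subset_preimage_image _ _)
    rintro z ⟨w, hw, hwz⟩
    obtain ⟨σ, rfl⟩ := (QuotLib.orbit_iff hq.isQuot w z).1 hwz
    rw [permActU_hom]
    exact perm_mem_chartOpen f σ.down w hw
  let W' : Y.Opens := ⟨q '' (W : Set (fibPow f n)),
    (QuotLib.isQuotientMap hq.isQuot).isOpen_preimage.1 (by rw [hsat]; exact W.2)⟩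
  have hpre : q ⁻¹ᵁ W' = W := Opens.ext hsat
  haveI : IsAffine (q ⁻¹ᵁ W').toScheme := by
    have h := isAffineOpen_chartOpen f n e hU hV
    rw [show chartOpen f V U n = q ⁻¹ᵁ W' from hpre.symm] at h
    exact h
  have hW' : IsAffineOpen W' := by
    let act := QuotLib.restrictAct hq.isQuot.inv W'
    have hp := QuotLib.isQuot_restrictAct hq.isQuot W'
    obtain ⟨Q, p, hQ, hpQ⟩ := QuotLib.exists_affine_quot act
    obtain ⟨a, ha⟩ := QuotLib.exists_desc hp p hpQ.inv
    obtain ⟨b, hb⟩ := QuotLib.exists_desc hpQ (q ∣_ W') hp.inv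
    haveI : IsIso a := ⟨b, QuotLib.hom_ext hp (by rw [← Category.assoc, ha, hb, Category.comp_id]),
      QuotLib.hom_ext hpQ (by rw [← Category.assoc, hb, ha, Category.comp_id])⟩
    exact IsAffine.of_isIso a
  refine ⟨U, W', hU, e, ⟨x, hxW, rfl⟩, hW', ?_, hpre⟩
  rintro _ ⟨w, hw, rfl⟩
  show g (q w) ∈ V
  rw [← Scheme.Hom.comp_apply, hq.over]
  exact ((mem_chartOpen f n w).1 hw).1

end SymPowLib

end
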