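import Groth.Agent.SymPowLib.Affine
import Groth.Agent.QuotLib.BaseChange

/-!
# Symmetric powers of flat schemes: flatness and base change
-/

set_option autoImplicit false
set_option linter.style.haveILetI false
set_option backward.isDefEq.respectTransparency false
set_option backward.isDefEq.respectTransparency.types false

universe u

open CategoryTheory CategoryTheory.Limits AlgebraicGeometry TopologicalSpace SymProd
open HilbPts.SC (fb fp fp_comp)
open scoped TensorProduct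

noncomputable section

namespace SymPowLib

section affine

variable {U V Y : Scheme.{u}} [IsAffine U] [IsAffine V] [IsAffine Y] {h : U ⟶ V} {n : ℕ}
  {r : fibPow h n ⟶ Y} {g : Y ⟶ V}

set_option maxHeartbeats 1000000 in
/-- Functions on the symmetric power of an affine scheme are the symmetric tensors. -/
theorem exists_symIso (hq : IsSymProd h n r g)
    [Algebra Γ(V, ⊤) Γ(U, ⊤)] (hAlg : algebraMap Γ(V, ⊤) Γ(U, ⊤) = h.appTop.hom)
    [Algebra Γ(V, ⊤) Γ(fibPow h n, ⊤)] (hP : algebraMap Γ(V, ⊤) Γ(fibPow h n, ⊤) = (fb h n).appTop.hom)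
    [Algebra Γ(V, ⊤) Γ(Y, ⊤)] (hY : algebraMap Γ(V, ⊤) Γ(Y, ⊤) = g.appTop.hom) :
    ∃ (Φ : (⨂[Γ(V, ⊤)] _ : Fin n, Γ(U, ⊤)) ≃ₐ[Γ(V, ⊤)] Γ(fibPow h n, ⊤))
      (E : Γ(Y, ⊤) ≃ₗ[Γ(V, ⊤)] ZCLib.symSub Γ(V, ⊤) n Γ(U, ⊤)),
      (∀ (σ : Equiv.Perm (Fin n)) t, (permHom h n σ).appTop.hom (Φ t) =
        Φ (SymTen.perm Γ(V, ⊤) Γ(U, ⊤) n σ.symm t)) ∧
      ∀ y, r.appTop.hom y = Φ (E y : ⨂[Γ(V, ⊤)] _ : Fin n, Γ(U, ⊤)) := by
  haveI : IsAffine (fibPow h n) := isAffine_fibPow h n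
  haveI : Finite (ULift.{u} (Equiv.Perm (Fin n))) := inferInstance
  obtain ⟨Φ, hΦ⟩ := exists_tensorIso h n hAlg hP
  let rA : Γ(Y, ⊤) →ₐ[Γ(V, ⊤)] Γ(fibPow h n, ⊤) :=
    { r.appTop.hom with
      commutes' := fun a => by
        show r.appTop.hom (algebraMap Γ(V, ⊤) Γ(Y, ⊤) a) = _
        rw [hY, hP, ← CommRingCat.comp_apply, ← Scheme.Hom.comp_appTop, hq.over] }
  let e0 := (Φ.symm.toAlgHom.comp rA).toLinearMap
  have hinj : Function.Injective e0 := fun a b hab => hq.isQuot.injective ⊤ (Φ.symm.injective hab)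
  have hrange : LinearMap.range e0 = ZCLib.symSub Γ(V, ⊤) n Γ(U, ⊤) := by
    ext t
    constructor
    · rintro ⟨y, rfl⟩
      refine ZCLib.mem_symSub.2 fun σ => ?_
      rw [← SymTen.perm_apply]
      apply Φ.injective
      show Φ (SymTen.perm _ _ n σ (Φ.symm (r.appTop.hom y))) = Φ (Φ.symm (r.appTop.hom y))
      rw [← Equiv.symm_symm σ, ← hΦ, AlgEquiv.apply_symm_apply]
      have := QuotLib.appTop_inv hq.isQuot.inv ⟨σ.symm⟩ y
      rwa [permActU_hom] at this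
    · intro ht
      obtain ⟨y, hy⟩ := QuotLib.appTop_mem_range hq.isQuot (Φ t) fun σ => by
        rw [permActU_hom, hΦ, SymTen.perm_apply, ZCLib.mem_symSub.1 ht]
      exact ⟨y, by show Φ.symm (r.appTop.hom y) = t; rw [hy, AlgEquiv.symm_apply_apply]⟩
  refine ⟨Φ, (LinearEquiv.ofInjective e0 hinj).trans (LinearEquiv.ofEq _ _ hrange), hΦ, fun y => ?_⟩
  show r.appTop.hom y = Φ (Φ.symm (r.appTop.hom y))
  rw [AlgEquiv.apply_symm_apply]

/-- Symmetric powers of flat affine schemes are flat. -/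
theorem flat_affine (hq : IsSymProd h n r g) [Flat h] : Flat g := by
  letI := h.appTop.hom.toAlgebra
  letI := (fb h n).appTop.hom.toAlgebra
  letI := g.appTop.hom.toAlgebra
  obtain ⟨-, E, -, -⟩ := exists_symIso hq rfl rfl rfl
  haveI : Module.Flat Γ(V, ⊤) Γ(U, ⊤) := (HasRingHomProperty.iff_of_isAffine (P := @Flat)).1 ‹Flat h›
  haveI : Module.Flat Γ(V, ⊤) (SymTen.TS Γ(V, ⊤) Γ(U, ⊤) n) := ZCLib.flat_TS
  rw [HasRingHomProperty.iff_of_isAffine (P := @Flat)]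
  haveI : Module.Flat Γ(V, ⊤) (ZCLib.symSub Γ(V, ⊤) n Γ(U, ⊤)) :=
    Module.Flat.of_linearEquiv (LinearEquiv.ofEq _ _ (ZCLib.TS_toSubmodule (A := Γ(V, ⊤)) (B := Γ(U, ⊤)) (d := n)).symm)
  show Module.Flat Γ(V, ⊤) Γ(Y, ⊤)
  exact Module.Flat.of_linearEquiv E

variable {V'' P'' Y'' : Scheme.{u}} [IsAffine V''] {b : V'' ⟶ V} {pX : P'' ⟶ fibPow h n} {r'' : P'' ⟶ Y''}
  {bY : Y'' ⟶ Y} {g'' : Y'' ⟶ V''}

set_option maxHeartbeats 1000000 in
/-- Symmetric powers of flat affine schemes commute with base change. -/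
theorem isQuot_baseChange_affine (hq : IsSymProd h n r g) [Flat h]
    (hX : IsPullback pX r'' r bY) (hYb : IsPullback bY g'' g b)
    (ρ'' : ULift.{u} (Equiv.Perm (Fin n)) →* Aut P'')
    (hρ₁ : ∀ σ, (ρ'' σ).hom ≫ pX = pX ≫ permHom h n σ.down)
    (hρ₂ : ∀ σ, (ρ'' σ).hom ≫ r'' = r'') : SGA1.IsQuot ρ'' r'' := by
  classical
  haveI : IsAffine (fibPow h n) := isAffine_fibPow h n
  haveI : IsAffine Y'' := .of_isPullback hYb
  haveI : IsAffine P'' := .of_isPullback hX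
  haveI : Finite (ULift.{u} (Equiv.Perm (Fin n))) := inferInstance
  have hpoY := (isPushout_appTop_of_isPullback hYb).flip
  have hsq : IsPullback pX (r'' ≫ g'') (fb h n) b := by
    have := hX.paste_vert hYb
    rwa [hq.over] at this
  have hpoX := (isPushout_appTop_of_isPullback hsq).flip
  algebraize [b.appTop.hom, h.appTop.hom, (fb h n).appTop.hom, g.appTop.hom, g''.appTop.hom, bY.appTop.hom,
    (r'' ≫ g'').appTop.hom, pX.appTop.hom, (bY.appTop.hom.comp g.appTop.hom),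
    (pX.appTop.hom.comp (fb h n).appTop.hom)]
  haveI : Module.Flat Γ(V, ⊤) Γ(U, ⊤) := (HasRingHomProperty.iff_of_isAffine (P := @Flat)).1 ‹Flat h›
  obtain ⟨Φ, E, hΦ, hr⟩ := exists_symIso hq (U := U) rfl rfl rfl
  have hwY : ∀ a, g''.appTop.hom (b.appTop.hom a) = bY.appTop.hom (g.appTop.hom a) := fun a => by
    rw [← CommRingCat.comp_apply, ← CommRingCat.comp_apply, hpoY.w]
  have hwX : ∀ a, (r'' ≫ g'').appTop.hom (b.appTop.hom a) = pX.appTop.hom ((fb h n).appTop.hom a) := fun a => by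
    rw [← CommRingCat.comp_apply, ← CommRingCat.comp_apply, hpoX.w]
  haveI : IsScalarTower Γ(V, ⊤) Γ(V'', ⊤) Γ(Y'', ⊤) := IsScalarTower.of_algebraMap_eq fun a => (hwY a).symm
  haveI : IsScalarTower Γ(V, ⊤) Γ(V'', ⊤) Γ(P'', ⊤) := IsScalarTower.of_algebraMap_eq fun a => (hwX a).symm
  haveI : Algebra.IsPushout Γ(V, ⊤) Γ(V'', ⊤) Γ(Y, ⊤) Γ(Y'', ⊤) :=
    CommRingCat.isPushout_iff_isPushout.1 hpoY
  haveI : Algebra.IsPushout Γ(V, ⊤) Γ(V'', ⊤) Γ(fibPow h n, ⊤) Γ(P'', ⊤) :=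
    CommRingCat.isPushout_iff_isPushout.1 hpoX
  let eY := Algebra.IsPushout.equiv Γ(V, ⊤) Γ(V'', ⊤) Γ(Y, ⊤) Γ(Y'', ⊤)
  let eX := Algebra.IsPushout.equiv Γ(V, ⊤) Γ(V'', ⊤) Γ(fibPow h n, ⊤) Γ(P'', ⊤)
  let ι := (ZCLib.symSub Γ(V, ⊤) n Γ(U, ⊤)).subtype
  have hone : ∀ z, r''.appTop.hom (eY z) =
      eX (Φ.toLinearMap.lTensor Γ(V'', ⊤) (ι.lTensor Γ(V'', ⊤) (E.toLinearMap.lTensor Γ(V'', ⊤) z))) := fun z => by
    induction z using TensorProduct.induction_on with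
    | zero => simp
    | add z w hz hw => simp [map_add, hz, hw]
    | tmul a y =>
      simp only [LinearMap.lTensor_tmul, eY, eX, Algebra.IsPushout.equiv_tmul, map_mul]
      congr 1
      show r''.appTop.hom (bY.appTop.hom y) = pX.appTop.hom (Φ (E y : ⨂[Γ(V, ⊤)] _ : Fin n, Γ(U, ⊤)))
      rw [← hr, ← CommRingCat.comp_apply, ← CommRingCat.comp_apply, ← Scheme.Hom.comp_appTop,
        ← Scheme.Hom.comp_appTop, hX.w]
  have hinjΦ : Function.Injective (Φ.toLinearMap.lTensor Γ(V'', ⊤)) :=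
    (Φ.toLinearEquiv.lTensor Γ(V'', ⊤)).injective
  have hsurjE : Function.Surjective (E.toLinearMap.lTensor Γ(V'', ⊤)) :=
    (E.lTensor Γ(V'', ⊤)).surjective
  refine QuotLib.isQuot_of_affine hρ₂ (fun a a' haa => ?_) fun z hz => ?_
  · obtain ⟨a, rfl⟩ := eY.surjective a
    obtain ⟨a', rfl⟩ := eY.surjective a'
    rw [hone, hone] at haa
    exact congrArg eY ((E.lTensor Γ(V'', ⊤)).injective
      (ZCLib.lTensor_subtype_injective_of_flat n Γ(V'', ⊤) (hinjΦ (eX.injective haa))))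
  · obtain ⟨w, rfl⟩ := eX.surjective z
    obtain ⟨x, rfl⟩ := (Φ.toLinearEquiv.lTensor Γ(V'', ⊤)).surjective w
    have hact : ∀ (σ : Equiv.Perm (Fin n)) x, (ρ'' ⟨σ⟩).hom.appTop.hom (eX (Φ.toLinearMap.lTensor Γ(V'', ⊤) x)) =
        eX (Φ.toLinearMap.lTensor Γ(V'', ⊤)
          ((PiTensorProduct.reindex Γ(V, ⊤) (fun _ : Fin n => Γ(U, ⊤)) σ.symm).toLinearMap.lTensor Γ(V'', ⊤) x)) :=
      fun σ x => by
        induction x using TensorProduct.induction_on with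
        | zero => simp
        | add z w hz hw => simp only [map_add, hz, hw]
        | tmul a t =>
          simp only [LinearMap.lTensor_tmul, eX, Algebra.IsPushout.equiv_tmul, map_mul]
          congr 1
          · show (ρ'' ⟨σ⟩).hom.appTop.hom ((r'' ≫ g'').appTop.hom a) = (r'' ≫ g'').appTop.hom a
            rw [← CommRingCat.comp_apply, ← Scheme.Hom.comp_appTop, ← Category.assoc, hρ₂]
          · show (ρ'' ⟨σ⟩).hom.appTop.hom (pX.appTop.hom (Φ t)) =
              pX.appTop.hom (Φ (PiTensorProduct.reindex Γ(V, ⊤) (fun _ : Fin n => Γ(U, ⊤)) σ.symm t))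
            rw [← CommRingCat.comp_apply, ← Scheme.Hom.comp_appTop, hρ₁, Scheme.Hom.comp_appTop,
              CommRingCat.comp_apply, hΦ, SymTen.perm_apply]
    obtain ⟨v, hv⟩ := mem_range_lTensor_of_invariant Γ(V'', ⊤) x fun σ => by
      have h1 : (ρ'' ⟨σ.symm⟩).hom.appTop.hom (eX (Φ.toLinearMap.lTensor Γ(V'', ⊤) x)) =
          eX (Φ.toLinearMap.lTensor Γ(V'', ⊤) x) := hz ⟨σ.symm⟩
      rw [hact, Equiv.symm_symm] at h1
      exact hinjΦ (eX.injective h1)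
    obtain ⟨u, rfl⟩ := hsurjE v
    exact ⟨eY u, by rw [hone, hv]; rfl⟩

end affine

variable {X S Y : Scheme.{u}} {f : X ⟶ S} {n : ℕ} {q : fibPow f n ⟶ Y} {g : Y ⟶ S}

/-- The affine charts of a symmetric power are symmetric powers. -/
theorem exists_chart_quot (hAF : IsAF f) (hq : IsSymProd f n q g) (y : Y) {V : S.Opens} (hV : IsAffineOpen V)
    (hy : g y ∈ V) :
    ∃ (U : X.Opens) (W' : Y.Opens) (_ : IsAffineOpen U) (_ : IsAffineOpen W') (e : U ≤ f ⁻¹ᵁ V)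
      (eW : W' ≤ g ⁻¹ᵁ V) (r : fibPow (f.resLE V U e) n ⟶ W'.toScheme), y ∈ W' ∧
      IsSymProd (f.resLE V U e) n r (g.resLE V W' eW) ∧ IsPullback (chartMap f e n) r q W'.ι := by
  obtain ⟨U, W', hU, e, hyW', hW', eW, hpre⟩ := exists_chart f hAF q g hq y hV hy
  haveI : IsAffine U.toScheme := hU
  haveI : IsAffine V.toScheme := hV
  haveI : IsAffine W'.toScheme := hW'
  haveI := isAffine_fibPow (f.resLE V U e) n
  haveI : Finite (ULift.{u} (Equiv.Perm (Fin n))) := inferInstance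
  obtain ⟨φ, hφ⟩ := exists_chartIso f e n
  let ψ : fibPow (f.resLE V U e) n ≅ (q ⁻¹ᵁ W').toScheme := φ ≪≫ (fibPow f n).isoOfEq hpre.symm
  have hψ : ψ.hom ≫ (q ⁻¹ᵁ W').ι = chartMap f e n := by simp [ψ, hφ]
  haveI : IsAffine (q ⁻¹ᵁ W').toScheme := by
    have h := isAffineOpen_chartOpen f n e hU hV
    rw [← hpre] at h
    exact h
  let r := ψ.hom ≫ (q ∣_ W')
  have hr : r ≫ W'.ι = chartMap f e n ≫ q := by
    show (ψ.hom ≫ (q ∣_ W')) ≫ W'.ι = _
    rw [Category.assoc, morphismRestrict_ι, ← Category.assoc, hψ]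
  have hact : ∀ σ : ULift.{u} (Equiv.Perm (Fin n)),
      permHom (f.resLE V U e) n σ.down ≫ ψ.hom = ψ.hom ≫ (QuotLib.restrictAct hq.isQuot.inv W' σ).hom := fun σ => by
    rw [← cancel_mono (q ⁻¹ᵁ W').ι, Category.assoc, Category.assoc, hψ, QuotLib.restrictAct_ι, permActU_hom,
      reassoc_of% hψ, chartMap_perm]
  have hp := QuotLib.isQuot_restrictAct hq.isQuot W'
  have hinv : ∀ σ, (permActU (f.resLE V U e) n σ).hom ≫ r = r := fun σ => by
    show _ ≫ ψ.hom ≫ (q ∣_ W') = _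
    rw [permActU_hom, ← Category.assoc, hact, Category.assoc, hp.inv]
  have hb := ConcreteCategory.bijective_of_isIso ψ.hom.appTop
  refine ⟨U, W', hU, hW', e, eW, r, hyW', ⟨QuotLib.isQuot_of_affine hinv ?_ fun s hs => ?_, ?_⟩, ?_⟩
  · intro a a' h
    rw [Scheme.Hom.comp_appTop, CommRingCat.comp_apply, CommRingCat.comp_apply] at h
    exact hp.injective ⊤ (hb.1 h)
  · obtain ⟨t, rfl⟩ := hb.2 s
    obtain ⟨a, rfl⟩ := QuotLib.appTop_mem_range hp t fun σ => hb.1 (by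
      have h1 := hs σ
      rw [permActU_hom, ← CommRingCat.comp_apply, ← Scheme.Hom.comp_appTop, hact, Scheme.Hom.comp_appTop,
        CommRingCat.comp_apply] at h1
      exact h1)
    exact ⟨a, by rw [Scheme.Hom.comp_appTop, CommRingCat.comp_apply]⟩
  · rw [← cancel_mono V.ι, Category.assoc, Scheme.Hom.resLE_comp_ι, ← Category.assoc, hr, Category.assoc,
      hq.over, chartMap_fb]
  · have h1 : IsPullback ψ.hom r (q ∣_ W') (𝟙 W'.toScheme) := IsPullback.of_horiz_isIso ⟨by simp [r]⟩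
    have := h1.paste_horiz (isPullback_morphismRestrict q W').flip
    rwa [hψ, Category.id_comp] at this

/-- Symmetric powers of flat (AF) schemes are flat. -/
theorem flat_symProd [Flat f] (hAF : IsAF f) (hq : IsSymProd f n q g) : Flat g := by
  choose V hV hyV _ using fun y : Y =>
    exists_isAffineOpen_mem_and_subset (show g y ∈ (⊤ : S.Opens) from trivial)
  choose U W' hU hW' e eW r hyW' hr _ using fun y : Y => exists_chart_quot hAF hq y (hV y) (hyV y)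
  refine IsZariskiLocalAtSource.of_iSup_eq_top (P := @Flat) W'
    (eq_top_iff.2 fun y _ => Opens.mem_iSup.2 ⟨y, hyW' y⟩) fun y => ?_
  haveI : IsAffine (U y).toScheme := hU y
  haveI : IsAffine (V y).toScheme := hV y
  haveI : IsAffine (W' y).toScheme := hW' y
  haveI : Flat (f.resLE (V y) (U y) (e y)) := IsZariskiLocalAtSource.resLE (P := @Flat) (e y) ‹_›
  haveI : Flat (g.resLE (V y) (W' y) (eW y)) := flat_affine (hr y)
  rw [← Scheme.Hom.resLE_comp_ι g (eW y)]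
  infer_instance

/-- The restriction of a cartesian square to opens. -/
theorem isPullback_resLE_inf {A B C D : Scheme.{u}} {a : A ⟶ B} {c : A ⟶ C} {x : B ⟶ D} {z : C ⟶ D}
    (h : IsPullback a c x z) {W : B.Opens} {V₂ : C.Opens} {V₀ : D.Opens} (eW : W ≤ x ⁻¹ᵁ V₀) (eV : V₂ ≤ z ⁻¹ᵁ V₀) :
    IsPullback (a.resLE W (a ⁻¹ᵁ W ⊓ c ⁻¹ᵁ V₂) inf_le_left) (c.resLE V₂ (a ⁻¹ᵁ W ⊓ c ⁻¹ᵁ V₂) inf_le_right)
      (x.resLE V₀ W eW) (z.resLE V₀ V₂ eV) := by
  have hw : a.resLE W (a ⁻¹ᵁ W ⊓ c ⁻¹ᵁ V₂) inf_le_left ≫ x.resLE V₀ W eW =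
      c.resLE V₂ (a ⁻¹ᵁ W ⊓ c ⁻¹ᵁ V₂) inf_le_right ≫ z.resLE V₀ V₂ eV := by
    rw [← cancel_mono V₀.ι, Category.assoc, Category.assoc, Scheme.Hom.resLE_comp_ι, Scheme.Hom.resLE_comp_ι,
      ← Category.assoc, ← Category.assoc, Scheme.Hom.resLE_comp_ι, Scheme.Hom.resLE_comp_ι, Category.assoc,
      Category.assoc, h.w]
  have h1 : ∀ s : PullbackCone (x.resLE V₀ W eW) (z.resLE V₀ V₂ eV), (s.fst ≫ W.ι) ≫ x = (s.snd ≫ V₂.ι) ≫ z := by
    intro s
    have := congrArg (fun t => t ≫ V₀.ι) s.condition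
    simpa only [Category.assoc, Scheme.Hom.resLE_comp_ι] using this
  have h2 : ∀ s : PullbackCone (x.resLE V₀ W eW) (z.resLE V₀ V₂ eV),
      Set.range (h.lift (s.fst ≫ W.ι) (s.snd ≫ V₂.ι) (h1 s)) ⊆ Set.range (a ⁻¹ᵁ W ⊓ c ⁻¹ᵁ V₂).ι := by
    intro s
    rw [Scheme.Opens.range_ι]
    rintro _ ⟨w, rfl⟩
    refine ⟨?_, ?_⟩
    · show a ((h.lift _ _ _) w) ∈ W
      rw [← Scheme.Hom.comp_apply, IsPullback.lift_fst, Scheme.Hom.comp_apply]
      exact (s.fst w).2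
    · show c ((h.lift _ _ _) w) ∈ V₂
      rw [← Scheme.Hom.comp_apply, IsPullback.lift_snd, Scheme.Hom.comp_apply]
      exact (s.snd w).2
  let L := fun s : PullbackCone (x.resLE V₀ W eW) (z.resLE V₀ V₂ eV) =>
    IsOpenImmersion.lift (a ⁻¹ᵁ W ⊓ c ⁻¹ᵁ V₂).ι (h.lift (s.fst ≫ W.ι) (s.snd ≫ V₂.ι) (h1 s)) (h2 s)
  have hL : ∀ s, L s ≫ (a ⁻¹ᵁ W ⊓ c ⁻¹ᵁ V₂).ι = h.lift (s.fst ≫ W.ι) (s.snd ≫ V₂.ι) (h1 s) :=
    fun s => IsOpenImmersion.lift_fac _ _ _
  refine ⟨⟨hw⟩, ⟨PullbackCone.IsLimit.mk _ L (fun s => ?_) (fun s => ?_) (fun s m hm1 hm2 => ?_)⟩⟩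
  · rw [← cancel_mono W.ι, Category.assoc, Scheme.Hom.resLE_comp_ι, reassoc_of% (hL s), IsPullback.lift_fst]
  · rw [← cancel_mono V₂.ι, Category.assoc, Scheme.Hom.resLE_comp_ι, reassoc_of% (hL s), IsPullback.lift_snd]
  · rw [← cancel_mono (a ⁻¹ᵁ W ⊓ c ⁻¹ᵁ V₂).ι, hL]
    refine h.hom_ext ?_ ?_
    · rw [IsPullback.lift_fst, Category.assoc, ← Scheme.Hom.resLE_comp_ι a inf_le_left, ← Category.assoc, hm1]
    · rw [IsPullback.lift_snd, Category.assoc, ← Scheme.Hom.resLE_comp_ι c inf_le_right, ← Category.assoc, hm2]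

set_option maxHeartbeats 1000000 in
/-- Symmetric powers of flat (AF) schemes commute with base change. -/
theorem isQuot_baseChange [Flat f] (hAF : IsAF f) (hq : IsSymProd f n q g)
    {S' P' Y' : Scheme.{u}} {b : S' ⟶ S} {c : P' ⟶ fibPow f n} {q' : P' ⟶ Y'} {bY : Y' ⟶ Y} {g' : Y' ⟶ S'}
    (hX : IsPullback c q' q bY) (hYb : IsPullback bY g' g b)
    (ρ' : ULift.{u} (Equiv.Perm (Fin n)) →* Aut P')
    (hρ₁ : ∀ σ, (ρ' σ).hom ≫ c = c ≫ permHom f n σ.down) (hρ₂ : ∀ σ, (ρ' σ).hom ≫ q' = q') :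
    SGA1.IsQuot ρ' q' := by
  haveI : Finite (ULift.{u} (Equiv.Perm (Fin n))) := inferInstance
  choose V hV hyV _ using fun y' : Y' =>
    exists_isAffineOpen_mem_and_subset (show g (bY y') ∈ (⊤ : S.Opens) from trivial)
  choose U W' hU hW' e eW r hyW' hr hpb using fun y' : Y' => exists_chart_quot hAF hq (bY y') (hV y') (hyV y')
  choose V'' hV'' hyV'' hle₀ using fun y' : Y' =>
    exists_isAffineOpen_mem_and_subset (show g' y' ∈ b ⁻¹ᵁ V y' by
      show b (g' y') ∈ V y'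
      rw [← Scheme.Hom.comp_apply, ← hYb.w, Scheme.Hom.comp_apply]; exact hyV y')
  have hle : ∀ y', V'' y' ≤ b ⁻¹ᵁ V y' := hle₀
  let O : Y' → Y'.Opens := fun y' => bY ⁻¹ᵁ W' y' ⊓ g' ⁻¹ᵁ V'' y'
  refine QuotLib.isQuot_of_cover hρ₂ O (fun y' => ⟨y', hyW' y', hyV'' y'⟩) fun y' => ?_
  haveI : IsAffine (U y').toScheme := hU y'
  haveI : IsAffine (V y').toScheme := hV y'
  haveI : IsAffine (W' y').toScheme := hW' y'
  haveI : IsAffine (V'' y').toScheme := hV'' y'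
  haveI : Flat (f.resLE (V y') (U y') (e y')) := IsZariskiLocalAtSource.resLE (P := @Flat) (e y') ‹_›
  have hsqY : IsPullback (bY.resLE (W' y') (O y') inf_le_left) (g'.resLE (V'' y') (O y') inf_le_right)
      (g.resLE (V y') (W' y') (eW y')) (b.resLE (V y') (V'' y') (hle y')) :=
    isPullback_resLE_inf hYb (eW y') (hle y')
  have hout : IsPullback ((q' ⁻¹ᵁ O y').ι ≫ c) (q' ∣_ O y') q
      (bY.resLE (W' y') (O y') inf_le_left ≫ (W' y').ι) := by
    rw [Scheme.Hom.resLE_comp_ι]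
    exact (isPullback_morphismRestrict q' (O y')).flip.paste_horiz hX
  let pX : (q' ⁻¹ᵁ O y').toScheme ⟶ fibPow (f.resLE (V y') (U y') (e y')) n :=
    (hpb y').lift ((q' ⁻¹ᵁ O y').ι ≫ c) ((q' ∣_ O y') ≫ bY.resLE (W' y') (O y') inf_le_left)
      (by rw [hout.w, Category.assoc])
  have hpX₁ : pX ≫ chartMap f (e y') n = (q' ⁻¹ᵁ O y').ι ≫ c := IsPullback.lift_fst _ _ _ _
  have hpX₂ : pX ≫ r y' = (q' ∣_ O y') ≫ bY.resLE (W' y') (O y') inf_le_left := IsPullback.lift_snd _ _ _ _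
  have hsqX : IsPullback pX (q' ∣_ O y') (r y') (bY.resLE (W' y') (O y') inf_le_left) := by
    refine IsPullback.of_right ?_ hpX₂ (hpb y')
    rw [hpX₁]
    exact hout
  refine isQuot_baseChange_affine (hr y') hsqX hsqY _ (fun σ => ?_) (fun σ => ?_)
  · refine (hpb y').hom_ext ?_ ?_
    · rw [Category.assoc, Category.assoc, ← chartMap_perm, hpX₁, reassoc_of% hpX₁, ← Category.assoc,
        QuotLib.restrictAct_ι, Category.assoc, hρ₁]
    · have hri : permHom (f.resLE (V y') (U y') (e y')) n σ.down ≫ r y' = r y' := by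
        have := (hr y').isQuot.inv σ
        rwa [permActU_hom] at this
      rw [Category.assoc, Category.assoc, hri, hpX₂, ← Category.assoc,
        show (QuotLib.restrictAct hρ₂ (O y') σ).hom ≫ (q' ∣_ O y') = q' ∣_ O y' by
          rw [← cancel_mono (O y').ι, Category.assoc, morphismRestrict_ι, ← Category.assoc,
            QuotLib.restrictAct_ι, Category.assoc, hρ₂]]
  · rw [← cancel_mono (O y').ι, Category.assoc, morphismRestrict_ι, ← Category.assoc,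
      QuotLib.restrictAct_ι, Category.assoc, hρ₂]

/-- Fibre powers commute with base change. -/
theorem isPullback_fibPow {S' : Scheme.{u}} (b : S' ⟶ S) (c : fibPow (pullback.snd f b) n ⟶ fibPow f n)
    (hcπ : ∀ i : Fin n, c ≫ fp f i = fp (pullback.snd f b) i ≫ pullback.fst f b)
    (hcb : c ≫ fb f n = fb (pullback.snd f b) n ≫ b) :
    IsPullback c (fb (pullback.snd f b) n) (fb f n) b := by
  let P := pullback (fb f n) b
  let comp : Fin n → (P ⟶ pullback f b) := fun i =>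
    pullback.lift (pullback.fst _ _ ≫ fp f i) (pullback.snd _ _) (by
      rw [Category.assoc, fp_comp, pullback.condition])
  let v : P ⟶ fibPow (pullback.snd f b) n :=
    WidePullback.lift (pullback.snd (fb f n) b) comp (fun i => pullback.lift_snd _ _ _)
  have hv : ∀ i, v ≫ fp (pullback.snd f b) i = comp i := fun i => WidePullback.lift_π _ _ _ _ i
  have hvb : v ≫ fb (pullback.snd f b) n = pullback.snd (fb f n) b := WidePullback.lift_base _ _ _ _
  refine IsPullback.of_iso_pullback ⟨hcb⟩ ⟨pullback.lift c (fb _ n) hcb, v, ?_, ?_⟩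
    (pullback.lift_fst _ _ _) (pullback.lift_snd _ _ _)
  · refine WidePullback.hom_ext _ _ _ (fun i => ?_) ?_
    · show (pullback.lift c _ hcb ≫ v) ≫ fp (pullback.snd f b) i = 𝟙 _ ≫ fp (pullback.snd f b) i
      rw [Category.assoc, hv, Category.id_comp]
      refine pullback.hom_ext ?_ ?_
      · simp [comp, hcπ]
      · simp [comp, fp_comp]
    · show (pullback.lift c _ hcb ≫ v) ≫ fb (pullback.snd f b) n = 𝟙 _ ≫ fb (pullback.snd f b) n
      rw [Category.assoc, hvb, Category.id_comp, pullback.lift_snd]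
  · refine pullback.hom_ext ?_ ?_
    · rw [Category.id_comp, Category.assoc, pullback.lift_fst]
      refine WidePullback.hom_ext _ _ _ (fun i => ?_) ?_
      · show (v ≫ c) ≫ fp f i = pullback.fst _ _ ≫ fp f i
        rw [Category.assoc, hcπ, ← Category.assoc, hv]
        exact pullback.lift_fst _ _ _
      · show (v ≫ c) ≫ fb f n = pullback.fst _ _ ≫ fb f n
        rw [Category.assoc, hcb, ← Category.assoc, hvb, pullback.condition]
    · rw [Category.id_comp, Category.assoc, pullback.lift_snd, hvb]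

end SymPowLib

end
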