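import Groth.Agent.ZCLib.TSRed
import Groth.Agent.ZCLib.TS

/-!
# Invariant tensors after base change of a flat module
-/

set_option autoImplicit false

noncomputable section

open TensorProduct PiTensorProduct

namespace SymPowLib

universe u

open ZCLib

variable {A : Type u} [CommRing A] {M : Type u} [AddCommGroup M] [Module A M] {d : ℕ}

/-- An invariant tensor of the base change of a flat module comes from the symmetric tensors. -/
theorem mem_range_lTensor_of_invariant [Module.Flat A M] (S : Type u) [CommRing S] [Algebra A S]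
    (x : S ⊗[A] (⨂[A] _ : Fin d, M))
    (hx : ∀ σ : Equiv.Perm (Fin d),
      (PiTensorProduct.reindex A (fun _ : Fin d => M) σ).toLinearMap.lTensor S x = x) :
    ∃ y, (symSub A d M).subtype.lTensor S y = x := by
  classical
  obtain ⟨J, _, s, y, rfl⟩ := exists_sum S x
  have hlift : ∀ x : ⨂[A] _ : Fin d, M,
      ∃ t, PiTensorProduct.map (fun _ : Fin d => pres A M) t = x := by
    intro x
    induction x using PiTensorProduct.induction_on with
    | smul_tprod r m =>
      exact ⟨r • tprod A fun i => Finsupp.single (m i) 1, by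
        simp [PiTensorProduct.map_tprod, pres_single]⟩
    | add b c hb hc =>
      obtain ⟨tb, hb⟩ := hb
      obtain ⟨tc, hc⟩ := hc
      exact ⟨tb + tc, by rw [map_add, hb, hc]⟩
  choose t ht using fun j => hlift (y j)
  set Q := PiTensorProduct.map (fun _ : Fin d => pres A M) with hQ
  have hσ : ∀ σ : Equiv.Perm (Fin d), Q.lTensor S
      (∑ j, s j ⊗ₜ[A] (PiTensorProduct.reindex A (fun _ : Fin d => M →₀ A) σ (t j) - t j)) = 0 := by
    intro σ
    have h := hx σ
    simp only [map_sum, LinearMap.lTensor_tmul, LinearEquiv.coe_coe] at h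
    simp only [map_sum, LinearMap.lTensor_tmul, map_sub, hQ, map_reindex_comm]
    simp only [hQ] at ht
    simp only [ht, tmul_sub, Finset.sum_sub_distrib, h, sub_self]
  have key := @exists_sum_ker A _ (⨂[A] _ : Fin d, M →₀ A) (⨂[A] _ : Fin d, M) _ _ _ _ S _ _
  choose L hL s' z hz hw using fun σ => key Q hlift (hσ σ)
  obtain ⟨κ, π, f, g', hg', hπ, hf⟩ := exists_factor (pres A M) pres_surjective
    (fun p : Σ σ : Equiv.Perm (Fin d), L σ => z p.1 p.2) (fun p => hz p.1 p.2) t
  set F := PiTensorProduct.map (fun _ : Fin d => f) with hF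
  let x' : S ⊗[A] (⨂[A] _ : Fin d, κ →₀ A) := ∑ j, s j ⊗ₜ[A] F (t j)
  have hx' : ∀ σ : Equiv.Perm (Fin d),
      (PiTensorProduct.reindex A (fun _ : Fin d => κ →₀ A) σ).toLinearMap.lTensor S x' = x' := by
    intro σ
    have h := congrArg (F.lTensor S) (hw σ)
    simp only [map_sum, LinearMap.lTensor_tmul, map_sub, hF, map_reindex_comm] at h
    rw [Finset.sum_eq_zero (s := (Finset.univ : Finset (L σ))) fun l _ => by
      rw [show PiTensorProduct.map (fun _ : Fin d => f) (z σ l) = 0 from hf ⟨σ, l⟩, tmul_zero]] at h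
    simp only [x', map_sum, LinearMap.lTensor_tmul, LinearEquiv.coe_coe, hF]
    refine sub_eq_zero.1 ?_
    rw [← Finset.sum_sub_distrib]
    refine Eq.trans (Finset.sum_congr rfl fun j _ => ?_) h
    symm; apply TensorProduct.tmul_sub
  let e : Module.Basis κ A (κ →₀ A) := Finsupp.basisSingleOne
  let G : symSub A d (κ →₀ A) →ₗ[A] symSub A d M :=
    (PiTensorProduct.map fun _ : Fin d => g').restrict fun t ht => map_mem_symSub _ ht
  refine ⟨G.lTensor S ((retr d e).lTensor S x'), ?_⟩
  have h1 : (symSub A d M).subtype ∘ₗ G =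
      (PiTensorProduct.map fun _ : Fin d => g') ∘ₗ (symSub A d (κ →₀ A)).subtype := rfl
  rw [← LinearMap.comp_apply, ← LinearMap.lTensor_comp, h1, LinearMap.lTensor_comp, LinearMap.comp_apply,
    lTensor_retr e x' hx']
  simp only [x', map_sum, LinearMap.lTensor_tmul]
  refine Finset.sum_congr rfl fun j _ => ?_
  rw [hF, ZCLib.map_map, ← hg', ← ZCLib.map_map, hπ j, ← hQ, ht]

end SymPowLib

end
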