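import Groth.Agent.SymPowLib.Chart
import Groth.Agent.SymPowLib.Ring
import Groth.Prelude.Def_SymTen

/-!
# Functions on the fibre power of an affine scheme over an affine scheme
-/

set_option autoImplicit false
set_option linter.style.haveILetI false
set_option backward.isDefEq.respectTransparency false
set_option backward.isDefEq.respectTransparency.types false

universe u

open CategoryTheory CategoryTheory.Limits AlgebraicGeometry TopologicalSpace SymProd
open HilbPts.SC (fb fp fp_comp)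
open scoped TensorProduct

noncomputable section

namespace SymPowLib

theorem isoSpec_inv_appTop' (W : Scheme.{u}) [IsAffine W] :
    W.isoSpec.inv.appTop = (Scheme.ΓSpecIso Γ(W, ⊤)).inv := by
  rw [← cancel_mono (Scheme.ΓSpecIso Γ(W, ⊤)).hom, Iso.inv_hom_id]
  conv_lhs => rw [← Scheme.toSpecΓ_appTop W]
  rw [← Scheme.Hom.comp_appTop]
  exact (congrArg Scheme.Hom.appTop W.isoSpec.hom_inv_id).trans Scheme.Hom.id_appTop

/-- Global sections of a map to an affine scheme given by a ring map. -/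
theorem appTop_SpecMap_comp_isoSpec_inv {W : Scheme.{u}} [IsAffine W] {R : CommRingCat.{u}} (φ : Γ(W, ⊤) ⟶ R) :
    (Spec.map φ ≫ W.isoSpec.inv).appTop ≫ (Scheme.ΓSpecIso R).hom = φ := by
  rw [Scheme.Hom.comp_appTop, isoSpec_inv_appTop', Category.assoc, Scheme.ΓSpecIso_naturality, Iso.inv_hom_id_assoc]

variable {U V : Scheme.{u}} [IsAffine U] [IsAffine V] (h : U ⟶ V) (n : ℕ)

set_option maxHeartbeats 1000000 in
/-- The functions on a fibre power are the tensor power, equivariantly. -/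
theorem exists_tensorIso [Algebra Γ(V, ⊤) Γ(U, ⊤)] (hAlg : algebraMap Γ(V, ⊤) Γ(U, ⊤) = h.appTop.hom)
    [Algebra Γ(V, ⊤) Γ(fibPow h n, ⊤)]
    (hP : algebraMap Γ(V, ⊤) Γ(fibPow h n, ⊤) = (fb h n).appTop.hom) :
    ∃ Φ : (⨂[Γ(V, ⊤)] _ : Fin n, Γ(U, ⊤)) ≃ₐ[Γ(V, ⊤)] Γ(fibPow h n, ⊤),
      ∀ (σ : Equiv.Perm (Fin n)) t, (permHom h n σ).appTop.hom (Φ t) =
        Φ (SymTen.perm Γ(V, ⊤) Γ(U, ⊤) n σ.symm t) := by
  classical
  haveI : IsAffine (fibPow h n) := isAffine_fibPow h n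
  let A : Type u := Γ(V, ⊤)
  let B : Type u := Γ(U, ⊤)
  let P := fibPow h n
  let π : Fin n → (Γ(U, ⊤) →ₐ[Γ(V, ⊤)] Γ(fibPow h n, ⊤)) := fun i =>
    { (fp h i).appTop.hom with
      commutes' := fun a => by
        show (fp h i).appTop.hom (algebraMap Γ(V, ⊤) Γ(U, ⊤) a) = algebraMap Γ(V, ⊤) Γ(fibPow h n, ⊤) a
        rw [hAlg, hP, ← CommRingCat.comp_apply, ← Scheme.Hom.comp_appTop, fp_comp] }
  let Φ := ZCLib.piLift π
  let T : CommRingCat.{u} := CommRingCat.of (⨂[Γ(V, ⊤)] _ : Fin n, Γ(U, ⊤))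
  let aT : Γ(V, ⊤) ⟶ T := CommRingCat.ofHom (algebraMap Γ(V, ⊤) (⨂[Γ(V, ⊤)] _ : Fin n, Γ(U, ⊤)))
  let slot : Fin n → (Γ(U, ⊤) ⟶ T) := fun i =>
    CommRingCat.ofHom (PiTensorProduct.singleAlgHom (R := Γ(V, ⊤)) (A := fun _ : Fin n => Γ(U, ⊤)) i).toRingHom
  have hslot : ∀ i, h.appTop ≫ slot i = aT := fun i => by
    ext a
    show PiTensorProduct.singleAlgHom (R := Γ(V, ⊤)) (A := fun _ : Fin n => Γ(U, ⊤)) i (h.appTop.hom a) = _
    rw [← hAlg]
    exact AlgHom.commutes _ a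
  let ψ : Spec T ⟶ fibPow h n := WidePullback.lift (Spec.map aT ≫ V.isoSpec.inv)
    (fun i => Spec.map (slot i) ≫ U.isoSpec.inv) (fun i => by
      rw [Category.assoc, ← Scheme.isoSpec_inv_naturality, ← Spec.map_comp_assoc, hslot])
  have hψp : ∀ i, ψ ≫ fp h i = Spec.map (slot i) ≫ U.isoSpec.inv := fun i => WidePullback.lift_π _ _ _ _ i
  have hψb : ψ ≫ fb h n = Spec.map aT ≫ V.isoSpec.inv := WidePullback.lift_base _ _ _ _
  let Ψ : Γ(fibPow h n, ⊤) ⟶ T := ψ.appTop ≫ (Scheme.ΓSpecIso T).hom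
  have hΨp : ∀ i, (fp h i).appTop ≫ Ψ = slot i := fun i => by
    rw [← Category.assoc, ← Scheme.Hom.comp_appTop, hψp, appTop_SpecMap_comp_isoSpec_inv]
  have hΨb : (fb h n).appTop ≫ Ψ = aT := by
    rw [← Category.assoc, ← Scheme.Hom.comp_appTop, hψb, appTop_SpecMap_comp_isoSpec_inv]
  let ΨA : Γ(fibPow h n, ⊤) →ₐ[Γ(V, ⊤)] (⨂[Γ(V, ⊤)] _ : Fin n, Γ(U, ⊤)) :=
    { Ψ.hom with
      commutes' := fun a => by
        show Ψ.hom (algebraMap Γ(V, ⊤) Γ(fibPow h n, ⊤) a) = _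
        rw [hP, ← CommRingCat.comp_apply, hΨb]
        rfl }
  have h1 : ΨA.comp Φ = AlgHom.id _ _ := PiTensorProduct.algHom_ext fun i => AlgHom.ext fun b => by
    show Ψ.hom (ZCLib.piLift π (PiTensorProduct.singleAlgHom (A := fun _ : Fin n => Γ(U, ⊤)) i b)) = _
    rw [ZCLib.piLift_single]
    show ((fp h i).appTop ≫ Ψ) b = _
    rw [hΨp]
    rfl
  let Φ' : T ⟶ Γ(fibPow h n, ⊤) := CommRingCat.ofHom Φ.toRingHom
  have hη : (fibPow h n).isoSpec.hom ≫ Spec.map Φ' ≫ ψ = 𝟙 _ := by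
    refine WidePullback.hom_ext _ _ _ (fun i => ?_) ?_
    · show ((fibPow h n).isoSpec.hom ≫ Spec.map Φ' ≫ ψ) ≫ fp h i = 𝟙 _ ≫ fp h i
      rw [Category.id_comp, Category.assoc, Category.assoc, hψp, ← Spec.map_comp_assoc,
        show slot i ≫ Φ' = (fp h i).appTop by
          ext b
          exact ZCLib.piLift_single π i b,
        ← Category.assoc, Scheme.isoSpec_hom_naturality, Category.assoc, Iso.hom_inv_id, Category.comp_id]
    · show ((fibPow h n).isoSpec.hom ≫ Spec.map Φ' ≫ ψ) ≫ fb h n = 𝟙 _ ≫ fb h n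
      rw [Category.id_comp, Category.assoc, Category.assoc, hψb, ← Spec.map_comp_assoc,
        show aT ≫ Φ' = (fb h n).appTop by
          ext a
          show Φ (algebraMap Γ(V, ⊤) _ a) = _
          rw [AlgHom.commutes, hP],
        ← Category.assoc, Scheme.isoSpec_hom_naturality, Category.assoc, Iso.hom_inv_id, Category.comp_id]
  have h2' : Ψ ≫ Φ' = 𝟙 _ := by
    have := congrArg Scheme.Hom.appTop hη
    rw [Scheme.Hom.comp_appTop, Scheme.Hom.comp_appTop, Scheme.Hom.id_appTop,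
      show (fibPow h n).isoSpec.hom.appTop = (Scheme.ΓSpecIso _).hom from Scheme.toSpecΓ_appTop _,
      Category.assoc, Scheme.ΓSpecIso_naturality, ← Category.assoc] at this
    exact this
  have h2 : Φ.comp ΨA = AlgHom.id _ _ := AlgHom.ext fun x => congr($h2' x)
  refine ⟨AlgEquiv.ofAlgHom Φ ΨA h2 h1, fun σ t => ?_⟩
  let σA : Γ(fibPow h n, ⊤) →ₐ[Γ(V, ⊤)] Γ(fibPow h n, ⊤) :=
    { (permHom h n σ).appTop.hom with
      commutes' := fun a => by
        show (permHom h n σ).appTop.hom (algebraMap Γ(V, ⊤) Γ(fibPow h n, ⊤) a) = _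
        rw [hP, ← CommRingCat.comp_apply, ← Scheme.Hom.comp_appTop, permHom_base] }
  have hcomm : σA.comp Φ = Φ.comp (SymTen.perm Γ(V, ⊤) Γ(U, ⊤) n σ.symm) :=
    PiTensorProduct.algHom_ext fun i => AlgHom.ext fun b => by
      have hs : SymTen.perm Γ(V, ⊤) Γ(U, ⊤) n σ.symm
          (PiTensorProduct.singleAlgHom (R := Γ(V, ⊤)) (A := fun _ : Fin n => Γ(U, ⊤)) i b) =
          PiTensorProduct.singleAlgHom (R := Γ(V, ⊤)) (A := fun _ : Fin n => Γ(U, ⊤)) (σ.symm i) b := by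
        simp only [PiTensorProduct.singleAlgHom_apply, MonoidHom.mulSingle_apply, SymTen.perm_tprod,
          Equiv.symm_symm]
        refine congrArg _ (funext fun j => ?_)
        by_cases hj : σ j = i
        · subst hj; simp
        · rw [Pi.mulSingle_eq_of_ne hj, Pi.mulSingle_eq_of_ne]
          intro hj'
          exact hj (by rw [hj', Equiv.apply_symm_apply])
      rw [AlgHom.comp_apply, AlgHom.comp_apply, AlgHom.comp_apply, AlgHom.comp_apply, hs,
        ZCLib.piLift_single, ZCLib.piLift_single]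
      show ((fp h i).appTop ≫ (permHom h n σ).appTop) b = (fp h (σ.symm i)).appTop b
      rw [← Scheme.Hom.comp_appTop, permHom_π]
  exact congr($hcomm t)

end SymPowLib

end
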